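import Mathlib.RingTheory.Etale.Locus
import Mathlib.RingTheory.Etale.Basic
import Mathlib.RingTheory.Localization.BaseChange
import Mathlib.RingTheory.RingHom.Etale

/-! Etaleness at a prime is stable under base change. -/

set_option autoImplicit false
set_option maxSynthPendingDepth 3
set_option linter.style.haveILetI false
set_option backward.isDefEq.respectTransparency.types false

universe u

open TensorProduct

noncomputable section

namespace Groth.L13.PureRam

theorem isEtaleAt_baseChange {A A' B : Type u} [CommRing A] [CommRing A'] [CommRing B] [Algebra A A'] [Algebra A B]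
    [Algebra.FinitePresentation A B] (q : Ideal B) [q.IsPrime] [Algebra.IsEtaleAt A q]
    (Q : Ideal (A' ⊗[A] B)) [Q.IsPrime]
    (hQ : Q.comap (Algebra.TensorProduct.includeRight (R := A) (A := A') (B := B)) = q) :
    Algebra.IsEtaleAt A' Q := by
  obtain ⟨f, hf, hfe⟩ := Algebra.exists_etale_of_isEtaleAt (R := A) q
  let fT : A' ⊗[A] B := Algebra.TensorProduct.includeRight f
  let D := A' ⊗[A] Localization.Away f
  let Tf := Localization.Away fT
  let m : A' ⊗[A] B →ₐ[A'] D :=
    Algebra.TensorProduct.map (AlgHom.id A' A') (IsScalarTower.toAlgHom A B (Localization.Away f))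
  let lB : Localization.Away f →ₐ[A] Tf := IsLocalization.liftAlgHom (M := Submonoid.powers f)
    (f := (IsScalarTower.toAlgHom A (A' ⊗[A] B) Tf).comp Algebra.TensorProduct.includeRight) (by
      rintro ⟨_, n, rfl⟩
      rw [map_pow]
      exact (IsLocalization.Away.algebraMap_isUnit fT).pow n)
  let g : D →ₐ[A'] Tf := Algebra.TensorProduct.lift (Algebra.ofId A' Tf) lB fun _ _ => Commute.all _ _
  have hm : ∀ y : Submonoid.powers fT, IsUnit (m y) := by
    rintro ⟨_, n, rfl⟩
    rw [map_pow]
    refine IsUnit.pow n ?_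
    show IsUnit ((1 : A') ⊗ₜ[A] algebraMap B (Localization.Away f) f)
    exact (IsLocalization.Away.algebraMap_isUnit f).map Algebra.TensorProduct.includeRight
  let h : Tf →ₐ[A'] D := IsLocalization.liftAlgHom (M := Submonoid.powers fT) (f := m) hm
  have hh : ∀ z, h (algebraMap (A' ⊗[A] B) Tf z) = m z := fun z => by simp [h]
  have hl : ∀ b, lB (algebraMap B _ b) = algebraMap (A' ⊗[A] B) Tf ((1 : A') ⊗ₜ b) := fun b => by simp [lB]
  have hgh : g.comp h = AlgHom.id A' Tf := by
    refine IsLocalization.algHom_ext (Submonoid.powers fT) ?_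
    refine Algebra.TensorProduct.ext (AlgHom.ext fun a => ?_) (AlgHom.ext fun b => ?_)
    · show g (h (algebraMap (A' ⊗[A] B) Tf (algebraMap A' (A' ⊗[A] B) a))) =
        algebraMap (A' ⊗[A] B) Tf (algebraMap A' (A' ⊗[A] B) a)
      rw [← IsScalarTower.algebraMap_apply A' (A' ⊗[A] B) Tf, AlgHom.commutes, AlgHom.commutes]
    · show g (h (algebraMap (A' ⊗[A] B) Tf ((1 : A') ⊗ₜ b))) = algebraMap (A' ⊗[A] B) Tf ((1 : A') ⊗ₜ b)
      rw [hh]
      show g ((1 : A') ⊗ₜ algebraMap B _ b) = _
      rw [Algebra.TensorProduct.lift_tmul, map_one, one_mul, hl]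
  have hhg : h.comp g = AlgHom.id A' D := by
    refine Algebra.TensorProduct.ext (AlgHom.ext fun a => by
      show h (g (algebraMap A' D a)) = algebraMap A' D a
      rw [AlgHom.commutes, AlgHom.commutes]) ?_
    refine IsLocalization.algHom_ext (Submonoid.powers f) (AlgHom.ext fun b => ?_)
    show h (g ((1 : A') ⊗ₜ algebraMap B _ b)) = (1 : A') ⊗ₜ algebraMap B _ b
    rw [Algebra.TensorProduct.lift_tmul, map_one, one_mul, hl, hh]
    rfl
  haveI : Algebra.Etale A' D := Algebra.Etale.baseChange A (Localization.Away f) A'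
  haveI : Algebra.Etale A' Tf := Algebra.Etale.of_equiv (AlgEquiv.ofAlgHom g h hgh hhg)
  exact (Algebra.basicOpen_subset_etaleLocus_iff_etale (R := A') (f := fT)).2 inferInstance
    (show (⟨Q, inferInstance⟩ : PrimeSpectrum (A' ⊗[A] B)) ∈ PrimeSpectrum.basicOpen fT from
      fun h' => hf (hQ ▸ h'))

end Groth.L13.PureRam
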