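import Groth.Prelude.Def_FEt
import Groth.Agent.L27.HenselPair
import Groth.Agent.L27.SplitStrict.Algebra

/-! A normal finite extension étale over the punctured spectrum of a pure normal local ring is étale. -/

set_option autoImplicit false
set_option maxSynthPendingDepth 3
set_option linter.style.haveILetI false
set_option backward.isDefEq.respectTransparency false
set_option backward.isDefEq.respectTransparency.types false

universe u

open IsLocalRing CategoryTheory CategoryTheory.Limits AlgebraicGeometry TensorProduct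

noncomputable section

namespace Groth.L13.PureRam

/-- The open subscheme where an algebra is etale is etale over the base. -/
theorem etale_ι_comp {A C : Type u} [CommRing A] [CommRing C] [Algebra A C] [Algebra.FinitePresentation A C]
    (W : (Spec (CommRingCat.of C)).Opens) (hW : ∀ Q : PrimeSpectrum C, Q ∈ W → Algebra.IsEtaleAt A Q.asIdeal) :
    Etale (W.ι ≫ Spec.map (CommRingCat.ofHom (algebraMap A C))) := by
  have hex : ∀ x : (W : Scheme.{u}), ∃ f : C, f ∉ (show PrimeSpectrum C from x.1).asIdeal ∧
      Algebra.Etale A (Localization.Away f) := fun x => by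
    haveI := hW x.1 x.2
    exact Algebra.exists_etale_of_isEtaleAt (R := A) (show PrimeSpectrum C from x.1).asIdeal
  choose f hf hfe using hex
  let D := fun x : (W : Scheme.{u}) => W.ι ⁻¹ᵁ (PrimeSpectrum.basicOpen (f x) : (Spec (CommRingCat.of C)).Opens)
  have hD : iSup D = ⊤ := top_le_iff.1 fun x _ => by
    refine TopologicalSpace.Opens.mem_iSup.2 ⟨x, ?_⟩
    exact hf x
  refine IsZariskiLocalAtSource.of_iSup_eq_top D hD fun x => ?_
  let j : Spec (CommRingCat.of (Localization.Away (f x))) ⟶ Spec (CommRingCat.of C) :=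
    Spec.map (CommRingCat.ofHom (algebraMap C (Localization.Away (f x))))
  haveI : IsOpenImmersion j := Scheme.isOpenImmersion_SpecMap_localizationAway (R := .of C) (f x)
  let k : (D x : Scheme.{u}) ⟶ Spec (CommRingCat.of (Localization.Away (f x))) :=
    IsOpenImmersion.lift j ((D x).ι ≫ W.ι) (by
      rintro _ ⟨z, rfl⟩
      exact (PrimeSpectrum.localization_away_comap_range (Localization.Away (f x)) (f x)).ge z.2)
  have hk : k ≫ j = (D x).ι ≫ W.ι := IsOpenImmersion.lift_fac _ _ _
  haveI : IsOpenImmersion (k ≫ j) := by rw [hk]; infer_instance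
  haveI : IsOpenImmersion k := IsOpenImmersion.of_comp k j
  haveI := hfe x
  haveI : Etale (j ≫ Spec.map (CommRingCat.ofHom (algebraMap A C))) := by
    rw [← Spec.map_comp]
    refine (HasRingHomProperty.Spec_iff (P := @Etale)).2 ?_
    show RingHom.Etale ((algebraMap C (Localization.Away (f x))).comp (algebraMap A C))
    rw [← IsScalarTower.algebraMap_eq]
    exact RingHom.etale_algebraMap.2 inferInstance
  rw [← Category.assoc, ← hk, Category.assoc]
  infer_instance

variable {A : Type u} [CommRing A] [IsDomain A] [IsLocalRing A] [IsNoetherianRing A] [IsIntegrallyClosed A]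

/-- A finite normal extension of a pure normal local ring which is etale over the punctured spectrum is etale. -/
theorem etale_of_purity (hp : FEt.PurityHolds A) (hne : maximalIdeal A ≠ ⊥)
    (C : Type u) [CommRing C] [IsDomain C] [IsIntegrallyClosed C] [Algebra A C] [Module.Finite A C]
    (hinj : Function.Injective (algebraMap A C))
    (het : ∀ Q : PrimeSpectrum C, Q.asIdeal.comap (algebraMap A C) ≠ maximalIdeal A →
      Algebra.IsEtaleAt A Q.asIdeal) :
    Algebra.Etale A C := by
  let K := FractionRing A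
  let L := FractionRing C
  haveI : Algebra.FinitePresentation A C := Algebra.FinitePresentation.of_finiteType.1 inferInstance
  let φ : Spec (CommRingCat.of C) ⟶ Spec (CommRingCat.of A) := Spec.map (CommRingCat.ofHom (algebraMap A C))
  haveI : IsFinite φ := (IsFinite.SpecMap_iff _).2 (RingHom.finite_algebraMap.2 inferInstance)
  let U := FEt.puncturedSpec A
  let W := φ ⁻¹ᵁ U
  haveI : Etale (φ ∣_ U) := by
    haveI : Etale (W.ι ≫ φ) := etale_ι_comp W fun Q hQ => het Q fun e => hQ (PrimeSpectrum.ext e)
    haveI : Etale ((φ ∣_ U) ≫ U.ι) := by rw [morphismRestrict_ι]; infer_instance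
    exact Etale.of_comp (φ ∣_ U) U.ι
  let V : FEt.Cat (U : Scheme.{u}) := MorphismProperty.Over.mk ⊤ (φ ∣_ U) ⟨inferInstance, inferInstance⟩
  haveI : (FEt.restrict U.ι).EssSurj := hp
  obtain ⟨E₀, ⟨iso⟩⟩ := Functor.EssSurj.mem_essImage (F := FEt.restrict U.ι) V
  obtain ⟨E, _, _, _, _, e, he⟩ := Groth.L27.HenselPair.exists_algebra E₀
  let π : Spec (CommRingCat.of E) ⟶ Spec (CommRingCat.of A) := Spec.map (CommRingCat.ofHom (algebraMap A E))
  let eh : E₀.left ⟶ Spec (CommRingCat.of A) := E₀.hom
  let i1 : (W : Scheme.{u}) ⟶ pullback eh U.ι := iso.inv.left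
  let i2 : pullback eh U.ι ⟶ (W : Scheme.{u}) := iso.hom.left
  have h12 : i1 ≫ i2 = 𝟙 _ := congrArg (fun k : V ⟶ V => k.left) iso.inv_hom_id
  have h21 : i2 ≫ i1 = 𝟙 _ :=
    congrArg (fun k : (FEt.restrict U.ι).obj E₀ ⟶ (FEt.restrict U.ι).obj E₀ => k.left) iso.hom_inv_id
  haveI : IsIso i1 := ⟨i2, h12, h21⟩
  have hi1 : i1 ≫ pullback.snd eh U.ι = φ ∣_ U := MorphismProperty.Over.w iso.inv
  let ψ : (W : Scheme.{u}) ⟶ Spec (CommRingCat.of E) := i1 ≫ pullback.fst eh U.ι ≫ e.hom
  have hψ : ψ ≫ π = W.ι ≫ φ := by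
    show (i1 ≫ pullback.fst eh U.ι ≫ e.hom) ≫ π = _
    rw [Category.assoc, Category.assoc, he, pullback.condition, ← Category.assoc, hi1, morphismRestrict_ι]
  haveI : IsOpenImmersion ψ := inferInstanceAs (IsOpenImmersion (i1 ≫ pullback.fst eh U.ι ≫ e.hom))
  -- the generic point of `C`
  have hgenW : ∀ z : PrimeSpectrum C, z.asIdeal = ⊥ → z ∈ W := fun z hz => by
    show φ z ≠ closedPoint A
    intro h
    apply hne
    have h1 : (φ z).asIdeal = maximalIdeal A := congrArg PrimeSpectrum.asIdeal h
    rw [← h1]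
    show z.asIdeal.comap (algebraMap A C) = ⊥
    rw [hz, ← RingHom.ker_eq_comap_bot, (RingHom.injective_iff_ker_eq_bot _).1 hinj]
  let g : Spec (CommRingCat.of L) ⟶ Spec (CommRingCat.of C) := Spec.map (CommRingCat.ofHom (algebraMap C L))
  let gW : Spec (CommRingCat.of L) ⟶ (W : Scheme.{u}) := IsOpenImmersion.lift W.ι g (by
    rintro _ ⟨z, rfl⟩
    rw [Scheme.Opens.range_ι]
    refine hgenW _ ?_
    show (show PrimeSpectrum L from z).asIdeal.comap (algebraMap C L) = ⊥
    rw [Subsingleton.elim (show PrimeSpectrum L from z) ⟨⊥, Ideal.isPrime_bot⟩, ← RingHom.ker_eq_comap_bot,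
      (RingHom.injective_iff_ker_eq_bot _).1 (IsFractionRing.injective C L)])
  have hgW : gW ≫ W.ι = g := IsOpenImmersion.lift_fac _ _ _
  let a := Spec.preimage (gW ≫ ψ)
  have ha : Spec.map a = gW ≫ ψ := Spec.map_preimage _
  have hacomm : a.hom.comp (algebraMap A E) = algebraMap A L := by
    have h : Spec.map (CommRingCat.ofHom (algebraMap A E) ≫ a) =
        Spec.map (CommRingCat.ofHom (algebraMap A C) ≫ CommRingCat.ofHom (algebraMap C L)) := by
      rw [Spec.map_comp, Spec.map_comp, ha, Category.assoc]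
      show gW ≫ ψ ≫ π = g ≫ φ
      rw [hψ, ← hgW, Category.assoc]
    rw [IsScalarTower.algebraMap_eq A C L]
    exact congrArg CommRingCat.Hom.hom (Spec.map_injective h)
  let α : E →ₐ[A] L := ⟨a.hom, fun r => RingHom.congr_fun hacomm r⟩
  have hαint : ∀ x, ∃ c : C, algebraMap C L c = α x := fun x =>
    IsIntegrallyClosed.isIntegral_iff.1 ((Algebra.IsIntegral.isIntegral (R := A) x).map α).tower_top
  choose β₀ hβ₀ using hαint
  have hLi := IsFractionRing.injective C L
  let β : E →ₐ[A] C :=
    { toFun := β₀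
      map_one' := hLi (by rw [hβ₀, map_one, map_one])
      map_mul' := fun x y => hLi (by rw [hβ₀, map_mul, map_mul, hβ₀, hβ₀])
      map_zero' := hLi (by rw [hβ₀, map_zero, map_zero])
      map_add' := fun x y => hLi (by rw [hβ₀, map_add, map_add, hβ₀, hβ₀])
      commutes' := fun r => hLi (by rw [hβ₀, AlgHom.commutes, ← IsScalarTower.algebraMap_apply]) }
  -- on `W` the map is the given open immersion
  let σ : Spec (CommRingCat.of C) ⟶ Spec (CommRingCat.of E) := Spec.map (CommRingCat.ofHom β.toRingHom)
  have hσπ : σ ≫ π = φ := by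
    rw [← Spec.map_comp]
    congr 1
    ext r
    exact β.commutes r
  have hgσ : gW ≫ W.ι ≫ σ = gW ≫ ψ := by
    rw [← Category.assoc, hgW, ← ha, ← Spec.map_comp]
    congr 1
    ext x
    exact hβ₀ x
  have hσψ : W.ι ≫ σ = ψ := by
    haveI : IsDominant gW := by
      refine ⟨fun w => ?_⟩
      obtain ⟨zz⟩ : Nonempty (Spec (CommRingCat.of L)) := (inferInstance : Nonempty (PrimeSpectrum L))
      have hgz : (show PrimeSpectrum C from g zz).asIdeal = ⊥ := by
        show (show PrimeSpectrum L from zz).asIdeal.comap (algebraMap C L) = ⊥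
        rw [Subsingleton.elim (show PrimeSpectrum L from zz) ⟨⊥, Ideal.isPrime_bot⟩, ← RingHom.ker_eq_comap_bot,
          (RingHom.injective_iff_ker_eq_bot _).1 hLi]
      have hw : (gW zz) ⤳ w := by
        refine W.ι.isOpenEmbedding.isInducing.specializes_iff.1 ?_
        rw [← Scheme.Hom.comp_apply, hgW]
        exact (PrimeSpectrum.le_iff_specializes (show PrimeSpectrum C from g zz) (show PrimeSpectrum C from w.1)).1
          (show (show PrimeSpectrum C from g zz).asIdeal ≤ (show PrimeSpectrum C from w.1).asIdeal by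
            rw [hgz]; exact bot_le)
      exact closure_mono (Set.singleton_subset_iff.2 (Set.mem_range_self zz)) (specializes_iff_mem_closure.1 hw)
    haveI : IsReduced (W : Scheme.{u}) := isReduced_of_isOpenImmersion W.ι
    exact ext_of_isDominant_of_isSeparated π (by rw [Category.assoc, hσπ, hψ]) gW hgσ
  -- bijective away from the closed point
  obtain ⟨t, htm, ht0⟩ : ∃ t ∈ maximalIdeal A, t ≠ 0 := Submodule.exists_mem_ne_zero_of_ne_bot hne
  let tE := algebraMap A E t
  let tC := algebraMap A C t
  have hmapeq : β.toRingHom tE = tC := β.commutes t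
  let jC : Spec (CommRingCat.of (Localization.Away tC)) ⟶ Spec (CommRingCat.of C) :=
    Spec.map (CommRingCat.ofHom (algebraMap C (Localization.Away tC)))
  let jE : Spec (CommRingCat.of (Localization.Away tE)) ⟶ Spec (CommRingCat.of E) :=
    Spec.map (CommRingCat.ofHom (algebraMap E (Localization.Away tE)))
  haveI : IsOpenImmersion jC := Scheme.isOpenImmersion_SpecMap_localizationAway (R := .of C) tC
  haveI : IsOpenImmersion jE := Scheme.isOpenImmersion_SpecMap_localizationAway (R := .of E) tE
  let lift : Localization.Away tE →+* Localization.Away tC :=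
    IsLocalization.Away.lift (g := (algebraMap C (Localization.Away tC)).comp β.toRingHom) tE
      (by rw [RingHom.comp_apply, hmapeq]; exact IsLocalization.Away.algebraMap_isUnit tC)
  have hlift : lift.comp (algebraMap E (Localization.Away tE)) =
      (algebraMap C (Localization.Away tC)).comp β.toRingHom := IsLocalization.Away.lift_comp _ _
  let h : Spec (CommRingCat.of (Localization.Away tC)) ⟶ Spec (CommRingCat.of (Localization.Away tE)) :=
    Spec.map (CommRingCat.ofHom lift)
  have hh : h ≫ jE = jC ≫ σ := by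
    rw [← Spec.map_comp, ← Spec.map_comp]
    exact congrArg Spec.map (CommRingCat.hom_ext hlift)
  have htW : ∀ y : PrimeSpectrum C, tC ∉ y.asIdeal → y ∈ W := fun y hy hcl => by
    refine hy ?_
    have h1 : y.asIdeal.comap (algebraMap A C) = maximalIdeal A := congrArg PrimeSpectrum.asIdeal hcl
    exact h1.ge htm
  let jW : Spec (CommRingCat.of (Localization.Away tC)) ⟶ (W : Scheme.{u}) := IsOpenImmersion.lift W.ι jC (by
    rintro _ ⟨z, rfl⟩
    rw [Scheme.Opens.range_ι]
    exact htW _ ((PrimeSpectrum.localization_away_comap_range (Localization.Away tC) tC).le ⟨z, rfl⟩))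
  have hjW : jW ≫ W.ι = jC := IsOpenImmersion.lift_fac _ _ _
  haveI : IsOpenImmersion (h ≫ jE) := by
    rw [hh, ← hjW, Category.assoc, hσψ]
    haveI : IsOpenImmersion (jW ≫ W.ι) := by rw [hjW]; infer_instance
    haveI : IsOpenImmersion jW := IsOpenImmersion.of_comp jW W.ι
    infer_instance
  haveI : IsOpenImmersion h := IsOpenImmersion.of_comp h jE
  haveI : Surjective h := ⟨fun y => by
    have hy : tE ∉ (show PrimeSpectrum E from jE y).asIdeal :=
      (PrimeSpectrum.localization_away_comap_range (Localization.Away tE) tE).le ⟨y, rfl⟩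
    have hyU : π (jE y) ∈ U := fun hcl => hy (by
      have h1 : (show PrimeSpectrum E from jE y).asIdeal.comap (algebraMap A E) = maximalIdeal A :=
        congrArg PrimeSpectrum.asIdeal hcl
      exact h1.ge htm)
    have hrange : jE y ∈ Set.range ψ := by
      obtain ⟨z, hz⟩ : e.inv (jE y) ∈ Set.range (pullback.fst eh U.ι) := by
        rw [IsOpenImmersion.range_pullbackFst, Scheme.Opens.opensRange_ι]
        show eh (e.inv (jE y)) ∈ U
        rw [← Scheme.Hom.comp_apply, show e.inv ≫ eh = π from by rw [Iso.inv_comp_eq]; exact he.symm]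
        exact hyU
      refine ⟨i2 z, ?_⟩
      show (i1 ≫ pullback.fst eh U.ι ≫ e.hom) (i2 z) = _
      rw [← Scheme.Hom.comp_apply, reassoc_of% h21, Scheme.Hom.comp_apply, hz, ← Scheme.Hom.comp_apply,
        e.inv_hom_id]
      rfl
    obtain ⟨w, hw⟩ := hrange
    have hwt : tC ∉ (show PrimeSpectrum C from w.1).asIdeal := fun hmem => hy (by
      have h' : β.toRingHom tE ∈ (show PrimeSpectrum C from w.1).asIdeal := by rw [hmapeq]; exact hmem
      rw [← hw, ← hσψ, Scheme.Hom.comp_apply]
      exact h')
    obtain ⟨z, hz⟩ := (PrimeSpectrum.localization_away_comap_range (Localization.Away tC) tC).ge hwt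
    refine ⟨z, jE.isOpenEmbedding.injective ?_⟩
    rw [← Scheme.Hom.comp_apply, hh, Scheme.Hom.comp_apply, ← hw, ← hσψ, Scheme.Hom.comp_apply]
    exact congrArg σ hz⟩
  haveI : IsIso h := (isIso_iff_isOpenImmersion_and_surjective h).2 ⟨inferInstance, inferInstance⟩
  have hlb : Function.Bijective lift := by
    haveI : IsIso (Spec.map (CommRingCat.ofHom lift)) := inferInstanceAs (IsIso h)
    haveI : IsIso (CommRingCat.ofHom lift) :=
      ⟨Spec.preimage (inv (Spec.map (CommRingCat.ofHom lift))),
        Spec.map_injective (by rw [Spec.map_comp, Spec.map_preimage, Spec.map_id, IsIso.inv_hom_id]),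
        Spec.map_injective (by rw [Spec.map_comp, Spec.map_preimage, Spec.map_id, IsIso.hom_inv_id])⟩
    exact ConcreteCategory.bijective_of_isIso (CommRingCat.ofHom lift)
  -- conclude
  have hEinj : Function.Injective (algebraMap E (Localization.Away tE)) := by
    refine IsLocalization.injective (Localization.Away tE) (M := Submonoid.powers tE)
      (Submonoid.powers_le.2 (mem_nonZeroDivisors_iff_right.2 fun x hx => ?_))
    apply Groth.L27.SplitStrict.tmul_injective (K := K) (A := A) E
    show x ⊗ₜ[A] (1 : K) = (0 : E) ⊗ₜ[A] (1 : K)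
    have h0 : (t • x) = 0 := by rw [Algebra.smul_def, mul_comm]; exact hx
    rw [← mul_inv_cancel₀ ((map_ne_zero_iff _ (IsFractionRing.injective A K)).2 ht0), ← Algebra.smul_def,
      ← smul_tmul, h0, zero_tmul, zero_tmul]
  have hβinj : Function.Injective β := fun x y hxy => hEinj (hlb.1 (by
    show lift.comp (algebraMap E _) x = lift.comp (algebraMap E _) y
    rw [hlift]
    exact congrArg (algebraMap C (Localization.Away tC)) hxy))
  have hβsurj : Function.Surjective β := fun c => by
    obtain ⟨z, hz⟩ := hlb.2 (algebraMap C (Localization.Away tC) c)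
    obtain ⟨x, ⟨_, n, rfl⟩, rfl⟩ := IsLocalization.exists_mk'_eq (Submonoid.powers tE) z
    have hxc : β x = algebraMap A C (t ^ n) * c := by
      have h1 := congrArg lift (IsLocalization.mk'_spec (Localization.Away tE) x (⟨tE ^ n, n, rfl⟩ : Submonoid.powers tE))
      rw [map_mul, hz, ← RingHom.comp_apply, hlift, ← RingHom.comp_apply, hlift] at h1
      have h2 : algebraMap C (Localization.Away tC) (c * β (tE ^ n)) = algebraMap C (Localization.Away tC) (β x) := by
        rw [map_mul]; exact h1
      have h3 := IsLocalization.injective (Localization.Away tC) (M := Submonoid.powers tC)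
        (powers_le_nonZeroDivisors_of_noZeroDivisors ((map_ne_zero_iff _ hinj).2 ht0)) h2
      rw [map_pow, β.commutes, ← map_pow] at h3
      rw [← h3, mul_comm]
    let z : E ⊗[A] K := x ⊗ₜ[A] (algebraMap A K (t ^ n))⁻¹
    let Φ : E ⊗[A] K →ₐ[A] L := Algebra.TensorProduct.lift ((IsScalarTower.toAlgHom A C L).comp β)
      (IsFractionRing.liftAlgHom (g := Algebra.ofId A L) (by
        show Function.Injective (algebraMap A L)
        rw [IsScalarTower.algebraMap_eq A C L]; exact hLi.comp hinj)) fun _ _ => Commute.all _ _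
    have hΦinj : Function.Injective Φ := by
      refine (injective_iff_map_eq_zero Φ).2 fun w hw => ?_
      obtain ⟨u, s, hs, rfl⟩ : ∃ (u : E) (s : A), s ≠ 0 ∧ w = u ⊗ₜ[A] (algebraMap A K s)⁻¹ := by
        clear hw
        induction w with
        | zero => exact ⟨0, 1, one_ne_zero, (zero_tmul _ _).symm⟩
        | tmul u k =>
          obtain ⟨p, q, hq, rfl⟩ := IsFractionRing.div_surjective (A := A) k
          refine ⟨p • u, q, nonZeroDivisors.ne_zero hq, ?_⟩
          rw [smul_tmul, Algebra.smul_def, div_eq_mul_inv]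
        | add w₁ w₂ h₁ h₂ =>
          obtain ⟨u₁, s₁, hs₁, rfl⟩ := h₁
          obtain ⟨u₂, s₂, hs₂, rfl⟩ := h₂
          refine ⟨s₂ • u₁ + s₁ • u₂, s₁ * s₂, mul_ne_zero hs₁ hs₂, ?_⟩
          rw [add_tmul, smul_tmul, smul_tmul, Algebra.smul_def, Algebra.smul_def, map_mul]
          have e₁ : algebraMap A K s₁ ≠ 0 := (map_ne_zero_iff _ (IsFractionRing.injective A K)).2 hs₁
          have e₂ : algebraMap A K s₂ ≠ 0 := (map_ne_zero_iff _ (IsFractionRing.injective A K)).2 hs₂
          congr 2
          · rw [mul_inv, mul_left_comm, mul_inv_cancel₀ e₂, mul_one]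
          · rw [mul_inv, ← mul_assoc, mul_inv_cancel₀ e₁, one_mul]
      have h1 : Φ ((u ⊗ₜ[A] (algebraMap A K s)⁻¹) * (1 ⊗ₜ[A] algebraMap A K s)) = 0 := by
        rw [map_mul, hw, zero_mul]
      rw [Algebra.TensorProduct.tmul_mul_tmul, mul_one,
        inv_mul_cancel₀ ((map_ne_zero_iff _ (IsFractionRing.injective A K)).2 hs)] at h1
      have h2 : algebraMap C L (β u) = 0 := by simpa [Φ] using h1
      rw [map_eq_zero_iff _ hLi, map_eq_zero_iff _ hβinj] at h2
      rw [h2, zero_tmul]
    have hzint : IsIntegral E z := by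
      have h1 : IsIntegral A (Φ z) := by
        have : Φ z = algebraMap C L c := by
          simp only [Φ, z, Algebra.TensorProduct.lift_tmul, AlgHom.comp_apply, IsScalarTower.toAlgHom_apply, map_inv₀,
            AlgHom.commutes, hxc, map_mul, ← IsScalarTower.algebraMap_apply]
          have e₁ : algebraMap A L (t ^ n) ≠ 0 := by
            rw [IsScalarTower.algebraMap_apply A C L]
            exact (map_ne_zero_iff _ hLi).2 ((map_ne_zero_iff _ hinj).2 (pow_ne_zero n ht0))
          rw [mul_comm (algebraMap A L (t ^ n)), mul_assoc,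
            mul_inv_cancel₀ e₁, mul_one]
        rw [this]
        exact (Algebra.IsIntegral.isIntegral (R := A) c).map (IsScalarTower.toAlgHom A C L)
      exact ((isIntegral_algHom_iff Φ hΦinj).1 h1).tower_top
    obtain ⟨y, hy⟩ := Groth.L27.SplitStrict.exists_tmul_of_isIntegral E hzint
    refine ⟨y, mul_left_cancel₀ ((map_ne_zero_iff _ hinj).2 (pow_ne_zero n ht0)) ?_⟩
    have hyx : x = t ^ n • y := Groth.L27.SplitStrict.tmul_injective (K := K) E (by
      show x ⊗ₜ[A] (1 : K) = (t ^ n • y) ⊗ₜ[A] (1 : K)
      rw [← TensorProduct.smul_tmul', hy]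
      show _ = t ^ n • (x ⊗ₜ[A] (algebraMap A K (t ^ n))⁻¹)
      rw [← tmul_smul, Algebra.smul_def,
        mul_inv_cancel₀ ((map_ne_zero_iff _ (IsFractionRing.injective A K)).2 (pow_ne_zero n ht0))])
    rw [← hxc, hyx, map_smul, Algebra.smul_def]
  exact Algebra.Etale.of_equiv (AlgEquiv.ofBijective β ⟨hβinj, hβsurj⟩)

end Groth.L13.PureRam
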