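import Groth.Agent.L13.PureRam.Extend
import Groth.Agent.L13.PureRam.BaseChange
import Groth.Agent.L06.CplSurj
import Groth.Agent.L06.NormalTensorFlat
import Groth.Agent.L06.NormalTensorApps
import Groth.Agent.L05.Hensel.Product
import Groth.Agent.L08.Luna.EtaleUnram
import Groth.Agent.L01.CompletionExt
import Mathlib.RingTheory.Unramified.LocalRing

/-! Finite normal extensions of pure normal local rings are unramified where they are so on generizations. -/

set_option autoImplicit false
set_option maxSynthPendingDepth 3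
set_option linter.style.haveILetI false
set_option backward.isDefEq.respectTransparency false
set_option backward.isDefEq.respectTransparency.types false

universe u

open IsLocalRing TensorProduct

noncomputable section

namespace Groth.L13.PureRam

theorem isUnramifiedAt_of_pure {A : Type u} [CommRing A] [IsDomain A] [IsLocalRing A] [IsNoetherianRing A]
    [IsIntegrallyClosed A]
    (hG : CAlg.IsGRing A) (hp : FEt.PurityHolds (AdicCompletion (maximalIdeal A) A))
    (hne : maximalIdeal A ≠ ⊥)
    (B : Type u) [CommRing B] [IsDomain B] [IsIntegrallyClosed B] [Algebra A B] [Module.Finite A B]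
    (hinj : Function.Injective (algebraMap A B)) (q : Ideal B) [q.IsPrime]
    (hq : q.comap (algebraMap A B) = maximalIdeal A)
    (hlt : ∀ (q' : Ideal B) [q'.IsPrime], q' < q → Algebra.IsUnramifiedAt A q') :
    Algebra.IsUnramifiedAt A q := by
  let k := A ⧸ maximalIdeal A
  let Ah := AdicCompletion (maximalIdeal A) A
  haveI := Groth.L01.AnalUnram.isNoetherianRing_completion A
  haveI := Groth.L01.CompletionExt.faithfullyFlat A
  have hmh : (maximalIdeal A).map (algebraMap A Ah) = maximalIdeal Ah := Groth.L01.AnalUnram.completion_map_maximalIdeal A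
  haveI : q.IsMaximal :=
    Ideal.isMaximal_of_isIntegral_of_isMaximal_comap (R := A) q (hq.symm ▸ maximalIdeal.isMaximal A)
  -- the completion is a normal domain
  have hNA : EGA4.IsNormalRing Ah :=
    Groth.L06.CplSurj.isNormalRing_completion hG (fun p _ =>
      ⟨IsLocalization.isDomain_localization p.primeCompl_le_nonZeroDivisors,
        isIntegrallyClosed_of_isLocalization _ p.primeCompl p.primeCompl_le_nonZeroDivisors⟩) _
  let eAh : Localization.AtPrime (maximalIdeal Ah) ≃+* Ah :=
    (IsLocalization.atUnits Ah (maximalIdeal Ah).primeCompl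
      (fun x hx => not_not.1 fun h => hx ((mem_maximalIdeal x).2 h))).toRingEquiv.symm
  haveI : IsDomain Ah := by
    haveI := (hNA (maximalIdeal Ah)).1
    exact eAh.symm.toMulEquiv.isDomain _
  haveI : IsIntegrallyClosed Ah := by
    haveI := (hNA (maximalIdeal Ah)).2
    exact IsIntegrallyClosed.of_equiv eAh
  have hneh : maximalIdeal Ah ≠ ⊥ := fun h => hne <| by
    rw [← hmh] at h
    rw [eq_bot_iff]
    intro a ha
    have h0 : algebraMap A Ah a = 0 := by
      rw [← Ideal.mem_bot, ← h]; exact Ideal.mem_map_of_mem _ ha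
    exact (FaithfulSMul.algebraMap_injective A Ah) (h0.trans (map_zero _).symm)
  -- the base change and the factor through `q`
  let T := Ah ⊗[A] B
  have hNT : EGA4.IsNormalRing T := Groth.L06.NormalTensor.isNormalRing_tensor
    (Groth.L06.FormalFibres.isNormalHom_of_isRegularHom (Groth.Agent.S0600.result A hG _)) B
    Groth.L06.NormalTensor.normalRing_of_domain
  let ρ : Ah →ₐ[A] k := AdicCompletion.evalOneₐ (maximalIdeal A)
  let mB : Ideal B := (maximalIdeal A).map (algebraMap A B)
  let j : k →ₐ[A] B ⧸ mB := Ideal.Quotient.liftₐ (maximalIdeal A) (Algebra.ofId A (B ⧸ mB)) (fun a ha => by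
    show algebraMap A (B ⧸ mB) a = 0
    rw [IsScalarTower.algebraMap_apply A B (B ⧸ mB)]
    exact Ideal.Quotient.eq_zero_iff_mem.2 (Ideal.mem_map_of_mem _ ha))
  let π : T →ₐ[A] B ⧸ mB :=
    Algebra.TensorProduct.lift (j.comp ρ) (Ideal.Quotient.mkₐ A mB) fun _ _ => Commute.all _ _
  have hπ : ∀ b, π ((1 : Ah) ⊗ₜ b) = Ideal.Quotient.mk mB b := fun b => by
    rw [Algebra.TensorProduct.lift_tmul, map_one, one_mul]; rfl
  have hmq : mB ≤ q := Ideal.map_le_iff_le_comap.2 hq.ge
  let κ : T →+* B ⧸ q := (Ideal.Quotient.factor hmq).comp π.toRingHom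
  have hκ : ∀ b, κ ((1 : Ah) ⊗ₜ b) = Ideal.Quotient.mk q b := fun b =>
    (congrArg (Ideal.Quotient.factor hmq) (hπ b)).trans (Ideal.Quotient.factor_mk hmq b)
  have hκs : Function.Surjective κ := fun z => by
    obtain ⟨b, rfl⟩ := Ideal.Quotient.mk_surjective z
    exact ⟨_, hκ b⟩
  letI : Field (B ⧸ q) := Ideal.Quotient.field q
  let Qt := RingHom.ker κ
  haveI : Qt.IsMaximal := RingHom.ker_isMaximal_of_surjective κ hκs
  -- the factor
  haveI : IsAdicComplete (maximalIdeal Ah) Ah := inferInstance
  haveI : HenselianLocalRing Ah := Groth.L05.henselianLocalRing_of_henselianRing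
  obtain ⟨ι, _, ei, he, hloc⟩ := Groth.L05.exists_idem_local_of_finite (A := Ah) T
  obtain ⟨i, hi⟩ : ∃ i, ei i ∉ Qt := by
    by_contra! h
    exact (Ideal.IsMaximal.ne_top inferInstance) (Ideal.eq_top_iff_one _ |>.2 (he.complete ▸ sum_mem fun i _ => h i))
  let e := ei i
  let C := T ⧸ Ideal.span ({1 - e} : Set T)
  haveI : IsLocalRing C := hloc i
  haveI : IsLocalization.Away e C := IsLocalization.Away.quotient_of_isIdempotentElem (he.idem i)
  have heQ : 1 - e ∈ Qt := by
    have h0 : e * (1 - e) ∈ Qt := by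
      rw [mul_sub, mul_one, (he.idem i).eq, sub_self]; exact zero_mem _
    exact ((RingHom.ker_isPrime κ).mem_or_mem h0).resolve_left hi
  let κC : C →+* B ⧸ q := Ideal.Quotient.lift _ κ (fun z hz =>
    RingHom.mem_ker.1 ((Ideal.span_singleton_le_iff_mem _).2 heQ hz))
  have hκC : Function.Surjective κC := fun z => by
    obtain ⟨w, rfl⟩ := hκs z
    exact ⟨Ideal.Quotient.mk _ w, Ideal.Quotient.lift_mk _ _ _⟩
  have hmaxC : (maximalIdeal C).comap (Ideal.Quotient.mk (Ideal.span ({1 - e} : Set T))) = Qt := by
    rw [← IsLocalRing.eq_maximalIdeal (RingHom.ker_isMaximal_of_surjective κC hκC)]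
    ext z
    rfl
  let eC : Localization.AtPrime (maximalIdeal C) ≃+* C :=
    (IsLocalization.atUnits C (maximalIdeal C).primeCompl
      (fun x hx => not_not.1 fun h => hx ((mem_maximalIdeal x).2 h))).toRingEquiv.symm
  haveI : IsLocalization.AtPrime (Localization.AtPrime (maximalIdeal C)) ((maximalIdeal C).comap (algebraMap T C)) :=
    IsLocalization.isLocalization_isLocalization_atPrime_isLocalization (Submonoid.powers e)
      (Localization.AtPrime (maximalIdeal C)) (maximalIdeal C)
  let eQ : Localization.AtPrime ((maximalIdeal C).comap (algebraMap T C)) ≃+* C :=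
    (IsLocalization.algEquiv ((maximalIdeal C).comap (algebraMap T C)).primeCompl
      (Localization.AtPrime ((maximalIdeal C).comap (algebraMap T C)))
      (Localization.AtPrime (maximalIdeal C))).toRingEquiv.trans eC
  haveI : ((maximalIdeal C).comap (algebraMap T C)).IsPrime := Ideal.IsPrime.comap _
  haveI : IsDomain C := by
    haveI := (hNT ((maximalIdeal C).comap (algebraMap T C))).1
    exact eQ.symm.toMulEquiv.isDomain _
  haveI : IsIntegrallyClosed C := by
    haveI := (hNT ((maximalIdeal C).comap (algebraMap T C))).2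
    exact IsIntegrallyClosed.of_equiv eQ
  haveI : Module.Finite Ah C := Module.Finite.of_surjective
    (IsScalarTower.toAlgHom Ah T C).toLinearMap Ideal.Quotient.mk_surjective
  -- torsion-freeness
  let L := FractionRing B
  haveI : FaithfulSMul A B := (faithfulSMul_iff_algebraMap_injective A B).2 hinj
  let K := FractionRing A
  haveI : FaithfulSMul A L := (faithfulSMul_iff_algebraMap_injective A L).2 (by
    rw [IsScalarTower.algebraMap_eq A B L]; exact (IsFractionRing.injective B L).comp hinj)
  letI : Algebra K L := FractionRing.liftAlgebra A L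
  haveI : Module.Flat A L := Module.Flat.trans A K L
  have hCinj : Function.Injective (algebraMap Ah C) := by
    refine (injective_iff_map_eq_zero _).2 fun a ha => by_contra fun ha0 => ?_
    rw [IsScalarTower.algebraMap_apply Ah T C, Ideal.Quotient.algebraMap_eq, Ideal.Quotient.eq_zero_iff_mem] at ha
    have hae : algebraMap Ah T a * e = 0 := by
      obtain ⟨c, hc⟩ := Ideal.mem_span_singleton'.1 ha
      rw [← hc, mul_assoc, sub_mul, one_mul, (he.idem i).eq, sub_self, mul_zero]
    let i₁ : T →ₗ[A] Ah ⊗[A] L := LinearMap.lTensor Ah (IsScalarTower.toAlgHom A B L).toLinearMap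
    have hi₁ : Function.Injective i₁ :=
      Module.Flat.lTensor_preserves_injective_linearMap _ (IsFractionRing.injective B L)
    let μ : Ah ⊗[A] L →ₗ[A] Ah ⊗[A] L := LinearMap.rTensor L (LinearMap.mulLeft A a)
    have hμ : Function.Injective μ :=
      Module.Flat.rTensor_preserves_injective_linearMap _ (mul_right_injective₀ ha0)
    have hcomm : ∀ w, i₁ (algebraMap Ah T a * w) = μ (i₁ w) := fun w => by
      induction w using TensorProduct.induction_on with
      | zero => simp
      | add x y hx hy => rw [mul_add, map_add, map_add, hx, hy, map_add]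
      | tmul x b =>
        rw [show algebraMap Ah T a * (x ⊗ₜ[A] b) = (a * x) ⊗ₜ[A] b by
          rw [Algebra.TensorProduct.algebraMap_apply, Algebra.TensorProduct.tmul_mul_tmul, one_mul]; rfl]
        rfl
    have he0 : e = 0 := hi₁ (hμ (by rw [← hcomm, hae, map_zero, map_zero]))
    exact hi (by rw [show ei i = 0 from he0]; exact zero_mem _)
  -- étale over the punctured spectrum
  have hetC : ∀ Q : PrimeSpectrum C, Q.asIdeal.comap (algebraMap Ah C) ≠ maximalIdeal Ah →
      Algebra.IsEtaleAt Ah Q.asIdeal := by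
    intro Q hQ
    let Q' := Q.asIdeal.comap (algebraMap T C)
    let q' := Q'.comap (Algebra.TensorProduct.includeRight (R := A) (A := Ah) (B := B))
    have hQ' : Q' ≤ Qt := hmaxC ▸ Ideal.comap_mono (le_maximalIdeal Q.2.ne_top)
    have hq' : q' < q := by
      refine lt_of_le_of_ne (fun b hb => ?_) fun heq => hQ ?_
      · have : κ ((1 : Ah) ⊗ₜ b) = 0 := RingHom.mem_ker.1 (hQ' hb)
        rwa [hκ, Ideal.Quotient.eq_zero_iff_mem] at this
      · refine ((maximalIdeal.isMaximal Ah).eq_of_le (Ideal.IsPrime.comap (K := Q.asIdeal) _).ne_top ?_).symm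
        rw [← hmh, Ideal.map_le_iff_le_comap]
        intro a ha
        have h1 : algebraMap A B a ∈ q' := by rw [heq]; exact hq.ge ha
        show algebraMap Ah C (algebraMap A Ah a) ∈ Q.asIdeal
        rw [← IsScalarTower.algebraMap_apply A Ah C, IsScalarTower.algebraMap_apply A T C]
        show algebraMap A T a ∈ Q'
        have h2 : (1 : Ah) ⊗ₜ[A] algebraMap A B a ∈ Q' := h1
        rwa [← Algebra.TensorProduct.algebraMap_apply'] at h2
    haveI : q'.IsPrime := Ideal.IsPrime.comap _
    haveI := hlt q' hq'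
    haveI : Algebra.IsEtaleAt A q' := Groth.L08.Luna.isEtaleAt_of_isUnramifiedAt hinj q'
    haveI : Algebra.FinitePresentation A B := Algebra.FinitePresentation.of_finiteType.1 inferInstance
    haveI : Algebra.IsEtaleAt Ah Q' := isEtaleAt_baseChange q' Q' rfl
    haveI : IsLocalization.AtPrime (Localization.AtPrime Q.asIdeal) Q' :=
      IsLocalization.isLocalization_isLocalization_atPrime_isLocalization (Submonoid.powers e)
        (Localization.AtPrime Q.asIdeal) Q.asIdeal
    exact Algebra.FormallyEtale.of_equiv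
      ((IsLocalization.algEquiv Q'.primeCompl (Localization.AtPrime Q') (Localization.AtPrime Q.asIdeal)).restrictScalars Ah)
  haveI : Algebra.Etale Ah C := etale_of_purity hp hneh C hCinj hetC
  -- residue field
  letI : Algebra T (B ⧸ q) := κ.toAlgebra
  letI : Algebra C (B ⧸ q) := κC.toAlgebra
  letI : Algebra Ah (B ⧸ q) := (κC.comp (algebraMap Ah C)).toAlgebra
  haveI : IsScalarTower Ah C (B ⧸ q) := .of_algebraMap_eq' rfl
  haveI : Algebra.FormallyUnramified Ah (B ⧸ q) :=
    Algebra.FormallyUnramified.of_surjective (IsScalarTower.toAlgHom Ah C (B ⧸ q)) hκC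
  have hkAh : ∀ a : Ah, algebraMap Ah (B ⧸ q) a = Ideal.Quotient.factor hmq (j (ρ a)) := fun a => by
    show κC (algebraMap Ah C a) = _
    rw [IsScalarTower.algebraMap_apply Ah T C]
    refine (Ideal.Quotient.lift_mk _ _ _).trans ?_
    show Ideal.Quotient.factor hmq (π (a ⊗ₜ 1)) = _
    rw [Algebra.TensorProduct.lift_tmul, map_one, mul_one]
    rfl
  letI : Algebra k (B ⧸ q) := ((Ideal.Quotient.factor hmq).comp j.toRingHom).toAlgebra
  letI : Algebra Ah k := ρ.toRingHom.toAlgebra
  haveI : IsScalarTower Ah k (B ⧸ q) := .of_algebraMap_eq hkAh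
  haveI : IsScalarTower A k (B ⧸ q) := .of_algebraMap_eq fun a => by
    show _ = Ideal.Quotient.factor hmq (j (algebraMap A k a))
    rw [AlgHom.commutes, IsScalarTower.algebraMap_apply A B (B ⧸ mB)]
    exact (Ideal.Quotient.factor_mk hmq _).symm
  haveI : Algebra.FormallyUnramified k (B ⧸ q) := Algebra.FormallyUnramified.of_restrictScalars Ah k _
  haveI : Algebra.FormallyUnramified A k := .quotient _
  haveI : Algebra.FormallyUnramified A (B ⧸ q) := Algebra.FormallyUnramified.comp A k _
  -- the local ring of `B`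
  let Bq := Localization.AtPrime q
  haveI : IsLocalHom (algebraMap A Bq) := ⟨fun a ha => not_not.1 fun hn => by
    have h1 : a ∈ maximalIdeal A := (mem_maximalIdeal a).2 hn
    rw [← hq, Ideal.mem_comap, ← IsLocalization.AtPrime.to_map_mem_maximal_iff Bq q,
      ← IsScalarTower.algebraMap_apply] at h1
    exact (mem_maximalIdeal _).1 h1 ha⟩
  haveI : Algebra.EssFiniteType A Bq :=
    haveI : Algebra.EssFiniteType B Bq := Algebra.EssFiniteType.of_isLocalization Bq q.primeCompl
    Algebra.EssFiniteType.comp A B Bq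
  haveI : Algebra.FormallyUnramified A (ResidueField Bq) :=
    Algebra.FormallyUnramified.of_surjective
      ((IsScalarTower.toAlgHom A (B ⧸ q) q.ResidueField : B ⧸ q →ₐ[A] q.ResidueField))
      (Ideal.bijective_algebraMap_quotient_residueField q).2
  haveI : Algebra.FormallyUnramified (ResidueField A) (ResidueField Bq) :=
    Algebra.FormallyUnramified.of_restrictScalars A _ _
  haveI : Algebra.EssFiniteType A (ResidueField Bq) := Algebra.EssFiniteType.comp A Bq _
  haveI : Algebra.EssFiniteType (ResidueField A) (ResidueField Bq) := Algebra.EssFiniteType.of_comp A _ _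
  haveI : Algebra.IsSeparable (ResidueField A) (ResidueField Bq) := Algebra.FormallyUnramified.isSeparable _ _
  show Algebra.FormallyUnramified A Bq
  refine Algebra.FormallyUnramified.of_map_maximalIdeal (le_antisymm ?_ ?_)
  · exact ((local_hom_TFAE (algebraMap A Bq)).out 0 2 rfl rfl).mp ‹_›
  rw [← Localization.AtPrime.map_eq_maximalIdeal, Ideal.map_le_iff_le_comap]
  intro x hx
  haveI : IsLocalHom (algebraMap Ah C) := RingHom.IsIntegral.isLocalHom (fun c => Algebra.IsIntegral.isIntegral c) hCinj
  have hmC : (maximalIdeal Ah).map (algebraMap Ah C) = maximalIdeal C := Algebra.FormallyUnramified.map_maximalIdeal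
  have hxC : Ideal.Quotient.mk (Ideal.span ({1 - e} : Set T)) ((1 : Ah) ⊗ₜ x) ∈ maximalIdeal C := by
    show (1 : Ah) ⊗ₜ x ∈ (maximalIdeal C).comap (Ideal.Quotient.mk (Ideal.span ({1 - e} : Set T)))
    rw [hmaxC, RingHom.mem_ker, hκ, Ideal.Quotient.eq_zero_iff_mem]
    exact hx
  rw [← hmC, ← hmh, Ideal.map_map, ← IsScalarTower.algebraMap_eq, IsScalarTower.algebraMap_eq A T C,
    ← Ideal.map_map, Ideal.Quotient.algebraMap_eq, Ideal.mem_map_iff_of_surjective _ Ideal.Quotient.mk_surjective] at hxC
  obtain ⟨y, hy, hyx⟩ := hxC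
  rw [Ideal.Quotient.eq, Ideal.mem_span_singleton'] at hyx
  obtain ⟨c, hc⟩ := hyx
  have hxe : e * ((1 : Ah) ⊗ₜ x) ∈ (maximalIdeal A).map (algebraMap A T) := by
    have h1 : e * ((1 : Ah) ⊗ₜ x) = e * y := by
      have h2 : e * (y - (1 : Ah) ⊗ₜ x) = 0 := by
        rw [← hc, ← mul_assoc, mul_comm e c, mul_assoc, mul_sub, mul_one, (he.idem i).eq, sub_self, mul_zero]
      rw [mul_sub, sub_eq_zero] at h2
      exact h2.symm
    rw [h1]
    exact Ideal.mul_mem_left _ _ hy
  obtain ⟨s, hs⟩ := Ideal.Quotient.mk_surjective (π e)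
  have hπ0 : π (e * ((1 : Ah) ⊗ₜ x)) = 0 := by
    have h1 := Ideal.mem_map_of_mem π.toRingHom hxe
    rw [Ideal.map_map, show π.toRingHom.comp (algebraMap A T) = algebraMap A (B ⧸ mB) from π.comp_algebraMap,
      IsScalarTower.algebraMap_eq A B (B ⧸ mB), ← Ideal.map_map, Ideal.Quotient.algebraMap_eq,
      Ideal.map_quotient_self, Ideal.mem_bot] at h1
    exact h1
  rw [map_mul, hπ, ← hs, ← map_mul, Ideal.Quotient.eq_zero_iff_mem] at hπ0
  have hsq : s ∉ q := fun h => hi (by
    show κ e = 0
    show Ideal.Quotient.factor hmq (π e) = 0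
    rw [← hs, Ideal.Quotient.factor_mk]
    exact Ideal.Quotient.eq_zero_iff_mem.2 h)
  show algebraMap B Bq x ∈ (maximalIdeal A).map (algebraMap A Bq)
  rw [IsScalarTower.algebraMap_eq A B Bq, ← Ideal.map_map,
    IsLocalization.algebraMap_mem_map_algebraMap_iff q.primeCompl]
  exact ⟨s, hsq, hπ0⟩

end Groth.L13.PureRam
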