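import Groth.Agent.L13.PureRam.Local
import Groth.Agent.L13.FEtLeff.Ample
import Groth.Agent.L06.GRingFT
import Groth.Agent.L13.Purity.InertiaGen
import Groth.Prelude.Def_SGA2
import Groth.Prelude.Def_EGA4b
import Mathlib.RingTheory.Localization.Integral
import Mathlib.AlgebraicGeometry.Limits

/-! Purity in codimension bounds the codimension of the ramification locus. -/

set_option autoImplicit false
set_option maxSynthPendingDepth 3
set_option linter.style.haveILetI false
set_option backward.isDefEq.respectTransparency false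
set_option backward.isDefEq.respectTransparency.types false

universe u

open IsLocalRing CategoryTheory CategoryTheory.Limits AlgebraicGeometry

noncomputable section

namespace Groth.L13.PureRam

/-- A pair whose open is empty is not pure. -/
theorem false_of_isPurePair_bot (X : Scheme.{u}) [Nonempty X] (U : X.Opens) (hU : U = ⊥)
    (h : SGA2.IsPurePair X U) : False := by
  let i := X.homOfLE (inf_le_left : (⊤ : X.Opens) ⊓ U ≤ ⊤)
  haveI := h ⊤
  let Z : FEt.Cat ((⊤ : X.Opens) : Scheme.{u}) :=
    MorphismProperty.Over.mk ⊤ (Scheme.emptyTo _) ⟨inferInstance, inferInstance⟩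
  let O : FEt.Cat ((⊤ : X.Opens) : Scheme.{u}) :=
    MorphismProperty.Over.mk ⊤ (𝟙 _) ⟨inferInstance, inferInstance⟩
  haveI hUe : IsEmpty (((⊤ : X.Opens) ⊓ U : X.Opens) : Scheme.{u}) := ⟨fun x => by
    have hx : x.1 ∈ U := x.2.2
    exact (hU.le hx : x.1 ∈ (⊥ : X.Opens)).elim⟩
  haveI : IsEmpty ((FEt.restrict i).obj O).left :=
    ⟨fun x => hUe.false (((FEt.restrict i).obj O).hom x)⟩
  let hI := isInitialOfIsEmpty (X := ((FEt.restrict i).obj O).left)
  let φ : (FEt.restrict i).obj O ⟶ (FEt.restrict i).obj Z :=
    MorphismProperty.Over.homMk (hI.to _) (hI.hom_ext _ _)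
  let ψ := (FEt.restrict i).preimage φ
  obtain ⟨x⟩ : Nonempty X := inferInstance
  exact IsEmpty.false (α := (∅ : Scheme.{u})) (ψ.left (⟨x, trivial⟩ : ((⊤ : X.Opens) : Scheme.{u})))

theorem height_lt_of_minimal_ramified (A : Type u) [CommRing A] [IsDomain A] [IsNoetherianRing A]
    [IsIntegrallyClosed A] (hA : CAlg.IsGRing A) (r : ℕ)
    (hpure : ∀ (P : Ideal A) [P.IsPrime], (r : ℕ∞) ≤ P.height →
      SGA2.IsPurePair (Spec (CommRingCat.of (AdicCompletion (maximalIdeal (Localization.AtPrime P)) (Localization.AtPrime P))))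
        (FEt.puncturedSpec (AdicCompletion (maximalIdeal (Localization.AtPrime P)) (Localization.AtPrime P))))
    (B : Type u) [CommRing B] [IsDomain B] [IsIntegrallyClosed B] [Algebra A B] [Module.Finite A B]
    (hinj : Function.Injective (algebraMap A B)) (q : Ideal B) [q.IsPrime] (hq : ¬ Algebra.IsUnramifiedAt A q)
    (hmin : ∀ (q' : Ideal B) [q'.IsPrime], q' ≤ q → ¬ Algebra.IsUnramifiedAt A q' → q' = q) :
    q.height < (r : ℕ∞) := by
  by_contra hr
  rw [not_lt] at hr
  let P := q.comap (algebraMap A B)
  have hP : (r : ℕ∞) ≤ P.height := hr.trans (Groth.L13.Purity.height_le_comap q)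
  let A0 := Localization.AtPrime P
  have hp := hpure P hP
  haveI : IsNoetherianRing A0 := IsLocalization.isNoetherianRing P.primeCompl A0 inferInstance
  haveI : IsDomain A0 := IsLocalization.isDomain_localization P.primeCompl_le_nonZeroDivisors
  by_cases hne : maximalIdeal A0 = ⊥
  · let Ah := AdicCompletion (maximalIdeal A0) A0
    refine false_of_isPurePair_bot _ _ ?_ hp
    ext x
    simp only [TopologicalSpace.Opens.coe_bot, Set.mem_empty_iff_false, iff_false, SetLike.mem_coe]
    intro hx
    refine hx (PrimeSpectrum.ext ?_)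
    have hmh : maximalIdeal Ah = ⊥ := by
      rw [← Groth.L01.AnalUnram.completion_map_maximalIdeal A0, Ideal.map_eq_bot_iff_le_ker]
      exact hne.le.trans bot_le
    show (show PrimeSpectrum Ah from x).asIdeal = maximalIdeal Ah
    exact le_antisymm (le_maximalIdeal (show PrimeSpectrum Ah from x).2.ne_top) (hmh ▸ bot_le)
  let B0 := Localization (Algebra.algebraMapSubmonoid B P.primeCompl)
  have hMle : Algebra.algebraMapSubmonoid B P.primeCompl ≤ q.primeCompl := by
    rintro _ ⟨a, ha, rfl⟩
    exact ha
  have hM0 : Algebra.algebraMapSubmonoid B P.primeCompl ≤ nonZeroDivisors B :=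
    hMle.trans q.primeCompl_le_nonZeroDivisors
  haveI : IsDomain B0 := IsLocalization.isDomain_localization hM0
  haveI : IsIntegrallyClosed B0 := isIntegrallyClosed_of_isLocalization _ _ hM0
  haveI : IsIntegrallyClosed A0 := isIntegrallyClosed_of_isLocalization _ P.primeCompl P.primeCompl_le_nonZeroDivisors
  letI : Algebra A0 B0 := localizationAlgebra P.primeCompl B
  haveI : IsScalarTower A A0 B0 := IsScalarTower.of_algebraMap_eq fun a => by
    rw [IsScalarTower.algebraMap_apply A B B0]
    exact (IsLocalization.map_eq (g := algebraMap A B) (Q := B0) (S := A0) (M := P.primeCompl)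
      (T := Algebra.algebraMapSubmonoid B P.primeCompl) (Submonoid.le_comap_map _) a).symm
  haveI : Module.Finite A0 B0 := Module.Finite.of_isLocalization A B P.primeCompl
  have hinj0 : Function.Injective (algebraMap A0 B0) := localizationAlgebra_injective (M := P.primeCompl) (Rₘ := A0) (Sₘ := B0) hinj
  let q0 := q.map (algebraMap B B0)
  have hdisj : Disjoint (Algebra.algebraMapSubmonoid B P.primeCompl : Set B) (q : Set B) :=
    Set.disjoint_left.2 fun x hx hxq => hMle hx hxq
  haveI : q0.IsPrime := IsLocalization.isPrime_of_isPrime_disjoint _ B0 q inferInstance hdisj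
  have hq0 : q0.comap (algebraMap B B0) = q :=
    IsLocalization.under_map_of_isPrime_disjoint _ B0 inferInstance hdisj
  have hq0A : q0.comap (algebraMap A0 B0) = maximalIdeal A0 := by
    haveI : (q0.comap (algebraMap A0 B0)).IsPrime := Ideal.IsPrime.comap _
    refine le_antisymm (le_maximalIdeal (Ideal.IsPrime.ne_top inferInstance)) ?_
    rw [← Localization.AtPrime.map_eq_maximalIdeal, Ideal.map_le_iff_le_comap, Ideal.comap_comap,
      ← IsScalarTower.algebraMap_eq A A0 B0, IsScalarTower.algebraMap_eq A B B0, ← Ideal.comap_comap, hq0]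
  have key : ∀ (Q : Ideal B0) [Q.IsPrime], Algebra.IsUnramifiedAt A (Q.comap (algebraMap B B0)) ↔
      Algebra.IsUnramifiedAt A0 Q := by
    intro Q _
    haveI : (Q.comap (algebraMap B B0)).IsPrime := Ideal.IsPrime.comap _
    haveI : IsLocalization.AtPrime (Localization.AtPrime Q) (Q.comap (algebraMap B B0)) :=
      IsLocalization.isLocalization_isLocalization_atPrime_isLocalization (Algebra.algebraMapSubmonoid B P.primeCompl)
        (Localization.AtPrime Q) Q
    let e := (IsLocalization.algEquiv (Q.comap (algebraMap B B0)).primeCompl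
      (Localization.AtPrime (Q.comap (algebraMap B B0))) (Localization.AtPrime Q)).restrictScalars A
    show Algebra.FormallyUnramified A _ ↔ Algebra.FormallyUnramified A0 _
    constructor
    · intro _
      haveI : Algebra.FormallyUnramified A (Localization.AtPrime Q) := Algebra.FormallyUnramified.of_equiv e
      exact Algebra.FormallyUnramified.of_restrictScalars A A0 _
    · intro _
      haveI : Algebra.FormallyUnramified A A0 := Algebra.FormallyUnramified.of_isLocalization P.primeCompl
      haveI : Algebra.FormallyUnramified A (Localization.AtPrime Q) := Algebra.FormallyUnramified.comp A A0 _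
      exact Algebra.FormallyUnramified.of_equiv e.symm
  have hun : Algebra.IsUnramifiedAt A0 q0 :=
    isUnramifiedAt_of_pure (Groth.L06.GRingFT.isGRing_localization P.primeCompl A0 hA)
      (Groth.L13.FEtLeff.purityHolds_of_isPurePair hp) hne B0 hinj0 q0 hq0A fun Q hQ hQlt => by
      haveI := hQ
      haveI : (Q.comap (algebraMap B B0)).IsPrime := Ideal.IsPrime.comap _
      refine (key Q).1 (by_contra fun hnu => ?_)
      have h1 : Q.comap (algebraMap B B0) = q := hmin _ ((Ideal.comap_mono hQlt.le).trans hq0.le) hnu
      refine hQlt.ne ?_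
      rw [← IsLocalization.map_under (Algebra.algebraMapSubmonoid B P.primeCompl) B0 Q]
      show Ideal.map _ (Q.comap (algebraMap B B0)) = _
      rw [h1]
  refine hq ?_
  have h2 := (key q0).2 hun
  exact (congrArg (fun I : PrimeSpectrum B => Algebra.IsUnramifiedAt A I.asIdeal)
    (PrimeSpectrum.ext (x := ⟨q0.comap (algebraMap B B0), Ideal.IsPrime.comap _⟩) (y := ⟨q, inferInstance⟩) hq0)).mp h2

end Groth.L13.PureRam
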